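import Groth.Agent.Lib.CIReg6.Basic
import Groth.Agent.Lib.RegLoc.Sop
import Groth.Agent.Lib.RegLoc.Quotient
import Mathlib

/-!
# Regular ideals and quotients
-/

namespace Groth.Agent.CIReg6

universe u

open IsLocalRing RingTheory.Sequence

variable {A : Type u} [CommRing A]

theorem isWeaklyRegular_quot_iff (J : Ideal A) (ss : List A) :
    IsWeaklyRegular (A ⧸ J) (ss.map (Ideal.Quotient.mk J)) ↔ IsWeaklyRegular (A ⧸ J) ss :=
  isWeaklyRegular_map_algebraMap_iff (A ⧸ J) (A ⧸ J) ss

theorem append_iff_quot (rs ss : List A) :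
    IsWeaklyRegular A (rs ++ ss) ↔ IsWeaklyRegular A rs ∧
      IsWeaklyRegular (A ⧸ Ideal.ofList rs) (ss.map (Ideal.Quotient.mk (Ideal.ofList rs))) := by
  rw [isWeaklyRegular_append_iff, isWeaklyRegular_quot_iff]
  refine and_congr_right fun _ => ?_
  exact (Submodule.quotEquivOfEq _ _ (by simp)).isWeaklyRegular_congr ss

theorem exists_lift_list {J K : Ideal A} (l : List (A ⧸ J)) (hl : ∀ z ∈ l, z ∈ K.map (Ideal.Quotient.mk J)) :
    ∃ ss : List A, (∀ z ∈ ss, z ∈ K) ∧ ss.map (Ideal.Quotient.mk J) = l := by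
  induction l with
  | nil => exact ⟨[], by simp, rfl⟩
  | cons z l ih =>
    obtain ⟨ss, h1, h2⟩ := ih fun w hw => hl w (List.mem_cons_of_mem _ hw)
    obtain ⟨y, hy, hyz⟩ := (Ideal.mem_map_iff_of_surjective _ Ideal.Quotient.mk_surjective).1 (hl z List.mem_cons_self)
    exact ⟨y :: ss, by simp [hy]; exact h1, by simp [hyz, h2]⟩

theorem eq_sup_of_map_eq {J K : Ideal A} (hJK : J ≤ K) (ss : List A)
    (h : Ideal.ofList (ss.map (Ideal.Quotient.mk J)) = K.map (Ideal.Quotient.mk J)) :
    J ⊔ Ideal.ofList ss = K := by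
  rw [← Ideal.map_ofList] at h
  have h2 := congrArg (Ideal.comap (Ideal.Quotient.mk J)) h
  rw [Ideal.comap_map_of_surjective _ Ideal.Quotient.mk_surjective,
    Ideal.comap_map_of_surjective _ Ideal.Quotient.mk_surjective] at h2
  change _ ⊔ RingHom.ker _ = _ ⊔ RingHom.ker _ at h2
  rw [Ideal.mk_ker, sup_eq_left.2 hJK, sup_comm] at h2
  exact h2

variable [IsLocalRing A] [IsNoetherianRing A]

/-- `J` and `K/J` regular give `K` regular. -/
theorem isRegularIdeal_of_quotient {J K : Ideal A} (hJK : J ≤ K) (hK : K ≤ maximalIdeal A)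
    (hJ : CInt.IsRegularIdeal J) (hKJ : CInt.IsRegularIdeal (K.map (Ideal.Quotient.mk J))) :
    CInt.IsRegularIdeal K := by
  obtain ⟨rs, hrs, hJ'⟩ := hJ
  subst hJ'
  obtain ⟨l, hl, hlK⟩ := hKJ
  obtain ⟨ss, -, hss⟩ := exists_lift_list l fun z hz => hlK.le (Ideal.subset_span hz)
  subst hss
  have hgen : Ideal.ofList (rs ++ ss) = K := by rw [Ideal.ofList_append]; exact eq_sup_of_map_eq hJK ss hlK
  refine ⟨rs ++ ss, DepthLib.isRegular_of_isWeaklyRegular (I := maximalIdeal A)
    ((append_iff_quot rs ss).2 ⟨hrs.toIsWeaklyRegular, hl.toIsWeaklyRegular⟩)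
    (fun r hr => hK (hgen ▸ Ideal.subset_span hr))
    (by rw [smul_eq_mul, Ideal.mul_top]; exact (maximalIdeal.isMaximal A).ne_top), hgen⟩

theorem isLocalRing_quot {J : Ideal A} (hJ : J ≤ maximalIdeal A) : IsLocalRing (A ⧸ J) :=
  RegLoc.isLocalRing_quotient (ne_top_of_le_ne_top (maximalIdeal.isMaximal A).ne_top hJ)

theorem maximalIdeal_quot (J : Ideal A) [IsLocalRing (A ⧸ J)] :
    maximalIdeal (A ⧸ J) = (maximalIdeal A).map (Ideal.Quotient.mk J) :=
  RegLoc.maximalIdeal_quotient

/-- `K` and `K/J` regular give `J` regular. -/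
theorem isRegularIdeal_of_regular_of_quotient {J K : Ideal A} (hJK : J ≤ K) (hK : K ≤ maximalIdeal A)
    (hKreg : CInt.IsRegularIdeal K) (hKJ : CInt.IsRegularIdeal (K.map (Ideal.Quotient.mk J))) :
    CInt.IsRegularIdeal J := by
  obtain ⟨l, hl, hlK⟩ := hKJ
  obtain ⟨ss, hssK, hss⟩ := exists_lift_list l fun z hz => hlK.le (Ideal.subset_span hz)
  subst hss
  haveI := isLocalRing_quot (hJK.trans hK)
  let F : Fin ss.length → A := fun i => ss.get i
  have hF : List.ofFn F = ss := List.ofFn_get ss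
  have hspan : Ideal.span (Set.range F) = Ideal.ofList ss := by
    conv_rhs => rw [← hF]
    unfold Ideal.ofList
    congr 1
    ext z
    simp [List.mem_ofFn]
  have hmap : List.ofFn (fun i => Ideal.Quotient.mk J (F i)) = ss.map (Ideal.Quotient.mk J) := by
    conv_rhs => rw [← hF, List.map_ofFn]
    rfl
  have hind : ∀ a : Fin ss.length → A, ∑ i, a i * F i ∈ maximalIdeal A * K → ∀ i, a i ∈ maximalIdeal A := by
    intro a ha i
    have h1 := coeff_mem_of_isRegular (fun i => Ideal.Quotient.mk J (F i)) (by rw [hmap]; exact hl)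
      (fun i => Ideal.Quotient.mk J (a i)) (by
        rw [hmap, hlK, maximalIdeal_quot J, ← Ideal.map_mul]
        convert Ideal.mem_map_of_mem (Ideal.Quotient.mk J) ha using 1
        simp [map_sum, map_mul]) i
    rw [maximalIdeal_quot J] at h1
    obtain ⟨y, hy, hya⟩ := (Ideal.mem_map_iff_of_surjective _ Ideal.Quotient.mk_surjective).1 h1
    rw [← sub_sub_cancel y (a i)]
    exact sub_mem hy ((hJK.trans hK) (Ideal.Quotient.eq.1 hya))
  obtain ⟨h, hT, hgen, hlen⟩ := exists_extension K F (fun i => hssK _ (ss.get_mem i)) hind J hJK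
    (by rw [hspan, Ideal.span_eq, sup_comm]; exact (eq_sup_of_map_eq hJK ss hlK).ge)
  rw [hF] at hgen
  have hgen' : Ideal.ofList (h ++ ss) = K := by
    rw [Ideal.ofList_append, sup_comm, ← Ideal.ofList_append, hgen]
  have hreg := isRegular_of_generators hKreg (h ++ ss) hgen' (by simp only [List.length_append]; omega)
  have hwr := (append_iff_quot h ss).1 hreg.toIsWeaklyRegular
  have hhJ : Ideal.ofList h ≤ J := Ideal.span_le.2 hT
  haveI := isLocalRing_quot (hhJ.trans (hJK.trans hK))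
  let J₁ := Ideal.ofList h
  let c : Ideal (A ⧸ J₁) := J.map (Ideal.Quotient.mk J₁)
  have hc : c = ⊥ := by
    refine le_bot_of_regular_quotient (ss.map (Ideal.Quotient.mk J₁)) (fun g hg => ?_) c ?_ ?_
    · obtain ⟨g', hg', rfl⟩ := List.mem_map.1 hg
      rw [maximalIdeal_quot J₁]
      exact Ideal.mem_map_of_mem _ (hK (hssK _ hg'))
    · rw [← Ideal.map_ofList]
      refine (Ideal.map_mono (hJK.trans hgen'.ge)).trans ?_
      rw [Ideal.ofList_append, Ideal.map_sup, Ideal.map_quotient_self, bot_sup_eq]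
    · have e : ((A ⧸ J₁) ⧸ c) ≃ₗ[A] A ⧸ J := (DoubleQuot.quotQuotEquivQuotOfLEₐ A hhJ).toLinearEquiv
      exact (isWeaklyRegular_map_algebraMap_iff (A ⧸ J₁) ((A ⧸ J₁) ⧸ c) ss).2
        ((e.isWeaklyRegular_congr ss).2 ((isWeaklyRegular_quot_iff J ss).1 hl.toIsWeaklyRegular))
  have hJeq : J₁ = J := le_antisymm hhJ fun x hx => Ideal.Quotient.eq_zero_iff_mem.1
    ((Submodule.mem_bot _).1 (hc.le (Ideal.mem_map_of_mem (Ideal.Quotient.mk J₁) hx)))
  exact ⟨h, DepthLib.isRegular_of_isWeaklyRegular (I := maximalIdeal A) hwr.1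
    (fun r hr => hK (hJK (hT r hr)))
    (by rw [smul_eq_mul, Ideal.mul_top]; exact (maximalIdeal.isMaximal A).ne_top), hJeq⟩

theorem isRegularIdeal_maximalIdeal [IsRegularLocalRing A] : CInt.IsRegularIdeal (maximalIdeal A) := by
  obtain ⟨x, hx⟩ := RegLoc.exists_fin_generators A
  refine ⟨List.ofFn x, RegLoc.isRegular_of_span_range _ A x hx rfl, ?_⟩
  refine Eq.trans ?_ hx
  unfold Ideal.ofList
  congr 1
  ext z
  simp [List.mem_ofFn]

/-- `A` is regular iff `J` is regular, when `A/J` is regular. -/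
theorem isRegularLocalRing_iff (J : Ideal A) [IsRegularLocalRing (A ⧸ J)] :
    IsRegularLocalRing A ↔ CInt.IsRegularIdeal J := by
  have hJ : J ≤ maximalIdeal A := le_maximalIdeal (Ideal.Quotient.nontrivial_iff.1 inferInstance)
  constructor
  · intro h
    refine isRegularIdeal_of_regular_of_quotient hJ le_rfl isRegularIdeal_maximalIdeal ?_
    rw [← maximalIdeal_quot J]
    exact isRegularIdeal_maximalIdeal
  · intro h
    obtain ⟨rs, hrs, hm⟩ := isRegularIdeal_of_quotient hJ le_rfl h (by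
      rw [← maximalIdeal_quot J]; exact isRegularIdeal_maximalIdeal)
    refine IsRegularLocalRing.of_spanFinrank_maximalIdeal_le A ?_
    classical
    have h1 : (maximalIdeal A).spanFinrank ≤ rs.length := by
      rw [← hm]
      refine (Submodule.spanFinrank_span_le_ncard_of_finite rs.finite_toSet).trans ?_
      rw [← List.coe_toFinset, Set.ncard_coe_finset]
      exact rs.toFinset_card_le
    have h2 := DepthLib.length_le_idealDepth (I := maximalIdeal A) hrs.toIsWeaklyRegular
      fun r hr => hm ▸ Ideal.subset_span hr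
    have h3 := DepthLib.depth_le_supportDim (R := A) (M := A)
    rw [Module.supportDim_self_eq_ringKrullDim] at h3
    refine le_trans ?_ h3
    exact WithBot.coe_le_coe.2 ((Nat.cast_le.2 h1).trans h2)

/-- In a regular local ring with `A/J` regular, `K` regular iff `K/J` regular. -/
theorem isRegularIdeal_iff_quotient [IsRegularLocalRing A] {J K : Ideal A} (hJK : J ≤ K)
    (hK : K ≤ maximalIdeal A) [IsRegularLocalRing (A ⧸ J)] :
    CInt.IsRegularIdeal K ↔ CInt.IsRegularIdeal (K.map (Ideal.Quotient.mk J)) := by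
  have hJreg := (isRegularLocalRing_iff J).1 ‹IsRegularLocalRing A›
  refine ⟨fun hKreg => ?_, isRegularIdeal_of_quotient hJK hK hJreg⟩
  obtain ⟨rs, hrs, hrsJ⟩ := hJreg
  subst hrsJ
  obtain ⟨ls, hls, hlsm⟩ := (isRegularIdeal_maximalIdeal (A := A ⧸ Ideal.ofList rs))
  obtain ⟨ss, -, hss⟩ := exists_lift_list (K := maximalIdeal A) ls fun z hz => by
    rw [← maximalIdeal_quot]; exact hlsm ▸ Ideal.subset_span hz
  subst hss
  have hm : Ideal.ofList (rs ++ ss) = maximalIdeal A := by
    rw [Ideal.ofList_append]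
    exact eq_sup_of_map_eq (hJK.trans hK) ss (by rw [hlsm, maximalIdeal_quot])
  have hregm : IsRegular A (rs ++ ss) := DepthLib.isRegular_of_isWeaklyRegular (I := maximalIdeal A)
    ((append_iff_quot rs ss).2 ⟨hrs.toIsWeaklyRegular, hls.toIsWeaklyRegular⟩)
    (fun r hr => hm ▸ Ideal.subset_span hr)
    (by rw [smul_eq_mul, Ideal.mul_top]; exact (maximalIdeal.isMaximal A).ne_top)
  let F : Fin rs.length → A := fun i => rs.get i
  let G : Fin ss.length → A := fun i => ss.get i
  have hFG : List.ofFn (Fin.append F G) = rs ++ ss := by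
    rw [List.ofFn_fin_append, List.ofFn_get, List.ofFn_get]
  have hind : ∀ a : Fin rs.length → A, ∑ i, a i * F i ∈ maximalIdeal A * K → ∀ i, a i ∈ maximalIdeal A := by
    intro a ha i
    have := coeff_mem_of_isRegular (Fin.append F G) (by rw [hFG]; exact hregm) (Fin.append a 0) (by
      rw [hFG, hm, Fin.sum_univ_add]
      simpa using Ideal.mul_mono_right hK ha) (Fin.castAdd _ i)
    simpa using this
  obtain ⟨h, hT, hgen, hlen⟩ := exists_extension K F
    (fun i => hJK (Ideal.subset_span (rs.get_mem i))) hind K le_rfl (by rw [Ideal.span_eq]; exact le_sup_right)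
  rw [show List.ofFn F = rs from List.ofFn_get rs] at hgen
  have hreg := isRegular_of_generators hKreg (rs ++ h) hgen (by simp only [List.length_append]; omega)
  haveI := isLocalRing_quot (hJK.trans hK)
  refine ⟨h.map (Ideal.Quotient.mk _), DepthLib.isRegular_of_isWeaklyRegular (I := maximalIdeal (A ⧸ Ideal.ofList rs))
    ((append_iff_quot rs h).1 hreg.toIsWeaklyRegular).2 (fun r hr => ?_)
    (by rw [smul_eq_mul, Ideal.mul_top]; exact (maximalIdeal.isMaximal _).ne_top), ?_⟩
  · obtain ⟨r', hr', rfl⟩ := List.mem_map.1 hr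
    rw [maximalIdeal_quot]
    exact Ideal.mem_map_of_mem _ (hK (hT r' hr'))
  · rw [← Ideal.map_ofList, ← hgen, Ideal.ofList_append, Ideal.map_sup, Ideal.map_quotient_self, bot_sup_eq]

end Groth.Agent.CIReg6
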