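import Groth.Prelude.Def_CInt
import Groth.Agent.Lib.Depth.Basic
import Groth.Agent.Lib.Depth.More
import Groth.Agent.Lib.Depth.CM
import Mathlib

/-!
# Ideals generated by regular sequences in Noetherian local rings
-/

namespace Groth.Agent.CIReg6

universe u

open IsLocalRing RingTheory.Sequence

variable {A : Type u} [CommRing A] [IsLocalRing A]

theorem ne_top_of_isRegular {rs : List A} (h : IsRegular A rs) : Ideal.ofList rs ≠ ⊤ := fun e =>
  h.top_ne_smul (by rw [e, Submodule.top_smul])

theorem le_maximalIdeal_of_isRegularIdeal {K : Ideal A} (h : CInt.IsRegularIdeal K) : K ≤ maximalIdeal A := by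
  obtain ⟨rs, hrs, rfl⟩ := h
  exact le_maximalIdeal (ne_top_of_isRegular hrs)

/-- Nakayama: lifts of spanning elements generate. -/
theorem span_eq_top_of_mod (K : Ideal A) [Module.Finite A K] (s : Set K)
    (h : ∀ y : ↥K ⧸ (maximalIdeal A • (⊤ : Submodule A ↥K)),
      y ∈ Submodule.span (A ⧸ maximalIdeal A) (Submodule.Quotient.mk '' s)) :
    Submodule.span A s = ⊤ := by
  refine top_le_iff.1 (Submodule.le_of_le_smul_of_le_jacobson_bot Module.Finite.fg_top
    (maximalIdeal_le_jacobson _) ?_)
  intro x _
  have hx := h (Submodule.Quotient.mk x)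
  rw [← Submodule.restrictScalars_mem A, Submodule.restrictScalars_span A (A ⧸ maximalIdeal A)
    Ideal.Quotient.mk_surjective] at hx
  have hx' : Submodule.Quotient.mk x ∈ (Submodule.span A s).map (maximalIdeal A • (⊤ : Submodule A ↥K)).mkQ := by
    rw [Submodule.map_span]; exact hx
  obtain ⟨z, hz, hzx⟩ := hx'
  rw [← sub_add_cancel x z]
  exact Submodule.add_mem _ (Submodule.mem_sup_right ((Submodule.Quotient.eq _).1 hzx.symm))
    (Submodule.mem_sup_left hz)

theorem mk_sum_eq_zero_iff {K : Ideal A} {ι : Type*} [Fintype ι] (g : ι → A) (hg : ∀ i, g i ∈ K) (a : ι → A) :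
    (∑ i, (Ideal.Quotient.mk (maximalIdeal A) (a i)) •
        (Submodule.Quotient.mk (⟨g i, hg i⟩ : K) : ↥K ⧸ (maximalIdeal A • (⊤ : Submodule A ↥K)))) = 0 ↔
      ∑ i, a i * g i ∈ maximalIdeal A * K := by
  have e : (∑ i, (Ideal.Quotient.mk (maximalIdeal A) (a i)) •
        (Submodule.Quotient.mk (⟨g i, hg i⟩ : K) : ↥K ⧸ (maximalIdeal A • (⊤ : Submodule A ↥K)))) =
      Submodule.Quotient.mk (∑ i, a i • (⟨g i, hg i⟩ : K)) := by
    rw [← Submodule.mkQ_apply, map_sum]
    exact Finset.sum_congr rfl fun i _ => rfl
  rw [e, Submodule.Quotient.mk_eq_zero]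
  have hmap : (maximalIdeal A • (⊤ : Submodule A ↥K)).map K.subtype = maximalIdeal A * K := by
    rw [Submodule.map_smul'', Submodule.map_top, Submodule.range_subtype, smul_eq_mul]
  rw [← hmap, show ∑ i, a i * g i = K.subtype (∑ i, a i • (⟨g i, hg i⟩ : K)) by simp [map_sum]]
  exact ⟨fun h => ⟨_, h, rfl⟩, fun ⟨w, hw, e⟩ => K.injective_subtype e ▸ hw⟩

variable [IsNoetherianRing A]

/-- A regular sequence minimally generates. -/
theorem length_le_spanFinrank {rs : List A} (h : IsRegular A rs) :
    rs.length ≤ (Ideal.ofList rs).spanFinrank := by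
  obtain ⟨P, hP⟩ := Ideal.nonempty_minimalPrimes (ne_top_of_isRegular h)
  haveI := hP.1.1
  have h1 := DepthLib.length_le_idealDepth (I := Ideal.ofList rs) h.toIsWeaklyRegular fun r hr => Ideal.subset_span hr
  have h2 := (DepthLib.natCast_le_idealDepth_iff_forall_localized rs.length).1 h1 ⟨P, hP.1.1⟩ hP.1.2
  have hnt : Nontrivial (LocalizedModule P.primeCompl A) :=
    (IsLocalizedModule.iso P.primeCompl (Algebra.linearMap A (Localization.AtPrime P))).toEquiv.nontrivial
  have h3 := DepthLib.depth_le_supportDim (R := Localization.AtPrime P) (M := LocalizedModule P.primeCompl A)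
  rw [DepthLib.supportDim_eq_ringKrullDim_of_isPrime] at h3
  have h4 := (h2.trans (WithBot.coe_le_coe.1 h3)).trans
    (Ideal.height_le_spanRank_toENat_of_mem_minimalPrimes _ P hP)
  rw [← Nat.cast_le (α := ℕ∞)]
  refine h4.trans (le_of_eq ?_)
  rw [Submodule.fg_iff_spanRank_eq_spanFinrank.mpr (IsNoetherian.noetherian _), map_natCast]

/-- Extend a family independent modulo `m K` to a generating family with elements of `T`. -/
theorem exists_extension (K : Ideal A) {m : ℕ} (F : Fin m → A) (hF : ∀ i, F i ∈ K)
    (hind : ∀ a : Fin m → A, ∑ i, a i * F i ∈ maximalIdeal A * K → ∀ i, a i ∈ maximalIdeal A)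
    (T : Set A) (hT : T ⊆ K) (hspan : K ≤ Ideal.span (Set.range F) ⊔ Ideal.span T) :
    ∃ h : List A, (∀ a ∈ h, a ∈ T) ∧ Ideal.ofList (List.ofFn F ++ h) = K ∧ m + h.length ≤ K.spanFinrank := by
  classical
  letI : Field (A ⧸ maximalIdeal A) := Ideal.Quotient.field _
  let V := ↥K ⧸ (maximalIdeal A • (⊤ : Submodule A ↥K))
  haveI : Module.Finite (A ⧸ maximalIdeal A) V := Module.Finite.of_restrictScalars_finite A _ _
  let v : Fin m ⊕ T → V := Sum.elim (fun i => Submodule.Quotient.mk ⟨F i, hF i⟩)
    fun t => Submodule.Quotient.mk ⟨t.1, hT t.2⟩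
  have hs : LinearIndepOn (A ⧸ maximalIdeal A) v (Set.range Sum.inl) := by
    have hF' : LinearIndependent (A ⧸ maximalIdeal A) (v ∘ Sum.inl) := by
      refine Fintype.linearIndependent_iff.2 fun g hg i => ?_
      choose a ha using fun i => Ideal.Quotient.mk_surjective (g i)
      have : ∑ i, a i * F i ∈ maximalIdeal A * K := (mk_sum_eq_zero_iff F hF a).1 (by simpa [ha, v] using hg)
      rw [← ha i]
      exact Ideal.Quotient.eq_zero_iff_mem.2 (hind a this i)
    exact (linearIndepOn_range_iff Sum.inl_injective v).2 hF'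
  obtain ⟨b, -, hsb, hbspan, hbind⟩ := exists_linearIndepOn_extension hs (Set.subset_univ _)
  haveI : Finite b := hbind.linearIndependent.finite
  haveI : Fintype b := Fintype.ofFinite b
  let bT : Finset A := ((b.toFinset.preimage Sum.inr Sum.inr_injective.injOn).image (fun t : T => (t : A)))
  have hcard : m + bT.card ≤ Fintype.card b := by
    have h1 : bT.card ≤ (b.toFinset.preimage Sum.inr Sum.inr_injective.injOn).card := Finset.card_image_le
    have h2 : (Finset.univ.image (Sum.inl : Fin m → Fin m ⊕ T)) ∪
        (b.toFinset.preimage Sum.inr Sum.inr_injective.injOn).image Sum.inr ⊆ b.toFinset := by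
      intro x hx
      rcases Finset.mem_union.1 hx with hx | hx
      · obtain ⟨i, -, rfl⟩ := Finset.mem_image.1 hx
        exact Set.mem_toFinset.2 (hsb ⟨i, rfl⟩)
      · obtain ⟨t, ht, rfl⟩ := Finset.mem_image.1 hx
        exact Finset.mem_preimage.1 ht
    have h3 := Finset.card_le_card h2
    rw [Finset.card_union_of_disjoint (by
        rw [Finset.disjoint_left]
        intro x hx hx'
        obtain ⟨i, -, rfl⟩ := Finset.mem_image.1 hx
        obtain ⟨t, -, ht⟩ := Finset.mem_image.1 hx'
        cases ht),
      Finset.card_image_of_injective _ Sum.inl_injective, Finset.card_image_of_injective _ Sum.inr_injective,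
      Finset.card_univ, Fintype.card_fin, Set.toFinset_card] at h3
    omega
  have hV : Module.finrank (A ⧸ maximalIdeal A) V ≤ K.spanFinrank := by
    obtain ⟨s, hs, hsK⟩ := (IsNoetherian.noetherian K : K.FG).exists_span_finset_card_eq_spanFinrank
    let s' : Finset V := s.attach.image fun y =>
      Submodule.Quotient.mk (⟨y.1, hsK ▸ Submodule.subset_span y.2⟩ : K)
    have : Submodule.span (A ⧸ maximalIdeal A) (s' : Set V) = ⊤ := by
      refine top_le_iff.1 fun y hy => ?_
      clear hy
      obtain ⟨⟨x, hx⟩, rfl⟩ := Submodule.Quotient.mk_surjective _ y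
      rw [← hsK] at hx
      induction hx using Submodule.span_induction with
      | mem z hz => exact Submodule.subset_span (Finset.mem_image.2 ⟨⟨z, hz⟩, Finset.mem_attach _ _, rfl⟩)
      | zero => exact zero_mem _
      | add z w hz hw h1 h2 => exact add_mem (h1 (hsK ▸ hz)) (h2 (hsK ▸ hw))
      | smul c z hz h1 => exact Submodule.smul_mem _ (Ideal.Quotient.mk _ c) (h1 (hsK ▸ hz))
    rw [← finrank_top, ← this]
    exact (finrank_span_finset_le_card _).trans (Finset.card_image_le.trans (by rw [Finset.card_attach, hs]))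
  refine ⟨bT.toList, fun a ha => ?_, ?_, ?_⟩
  · obtain ⟨t, -, rfl⟩ := Finset.mem_image.1 (Finset.mem_toList.1 ha)
    exact t.2
  · refine le_antisymm (Ideal.span_le.2 fun a ha => ?_) ?_
    · rcases List.mem_append.1 ha with ha | ha
      · obtain ⟨i, rfl⟩ := List.mem_ofFn.1 ha
        exact hF i
      · obtain ⟨t, -, rfl⟩ := Finset.mem_image.1 (Finset.mem_toList.1 ha)
        exact hT t.2
    · intro x hx
      have hvV : ∀ y : V, y ∈ Submodule.span (A ⧸ maximalIdeal A) (v '' b) := by
        intro y
        obtain ⟨⟨x, hx⟩, rfl⟩ := Submodule.Quotient.mk_surjective _ y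
        have hxT : x ∈ Submodule.span A (Set.range F ∪ T) := by
          rw [Submodule.span_union]; exact hspan hx
        have : ∀ hx, Submodule.Quotient.mk (⟨x, hx⟩ : K) ∈
            Submodule.span (A ⧸ maximalIdeal A) (v '' b) := by
          clear hx
          induction hxT using Submodule.span_induction with
          | mem z hz =>
            intro _
            refine hbspan ?_
            rcases hz with ⟨i, rfl⟩ | hz
            · exact ⟨Sum.inl i, trivial, rfl⟩
            · exact ⟨Sum.inr ⟨z, hz⟩, trivial, rfl⟩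
          | zero => intro _; exact zero_mem _
          | add z w hz hw h1 h2 =>
            intro _
            have hzK : z ∈ K := Submodule.span_le.2 (Set.union_subset (Set.range_subset_iff.2 hF) hT) hz
            have hwK : w ∈ K := Submodule.span_le.2 (Set.union_subset (Set.range_subset_iff.2 hF) hT) hw
            exact add_mem (h1 hzK) (h2 hwK)
          | smul c z hz h1 =>
            intro _
            have hzK : z ∈ K := Submodule.span_le.2 (Set.union_subset (Set.range_subset_iff.2 hF) hT) hz
            exact Submodule.smul_mem _ (Ideal.Quotient.mk _ c) (h1 hzK)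
        exact this hx
      have key := span_eq_top_of_mod K {z : K | (z : A) ∈ List.ofFn F ++ bT.toList} fun y => by
        refine Submodule.span_mono ?_ (hvV y)
        rintro _ ⟨i, hi, rfl⟩
        rcases i with i | t
        · exact ⟨⟨F i, hF i⟩, List.mem_append_left _ (List.mem_ofFn.2 ⟨i, rfl⟩), rfl⟩
        · exact ⟨⟨t.1, hT t.2⟩, List.mem_append_right _ (Finset.mem_toList.2 (Finset.mem_image.2
            ⟨t, Finset.mem_preimage.2 (Set.mem_toFinset.2 hi), rfl⟩)), rfl⟩
      have hxs : (⟨x, hx⟩ : K) ∈ Submodule.span A {z : K | (z : A) ∈ List.ofFn F ++ bT.toList} := key ▸ trivial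
      have := Submodule.apply_mem_span_image_of_mem_span K.subtype hxs
      refine Submodule.span_mono ?_ this
      rintro _ ⟨z, hz, rfl⟩
      exact hz
  · rw [Finset.length_toList]
    exact hcard.trans (hbind.linearIndependent.fintype_card_le_finrank.trans hV)

/-- The members of a regular sequence are independent modulo `m K`. -/
theorem coeff_mem_of_isRegular {n : ℕ} (r : Fin n → A) (h : IsRegular A (List.ofFn r)) (a : Fin n → A)
    (ha : ∑ i, a i * r i ∈ maximalIdeal A * Ideal.ofList (List.ofFn r)) : ∀ i, a i ∈ maximalIdeal A := by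
  classical
  letI : Field (A ⧸ maximalIdeal A) := Ideal.Quotient.field _
  set K := Ideal.ofList (List.ofFn r) with hKdef
  let V := ↥K ⧸ (maximalIdeal A • (⊤ : Submodule A ↥K))
  haveI : Module.Finite (A ⧸ maximalIdeal A) V := Module.Finite.of_restrictScalars_finite A _ _
  have hr : ∀ i, r i ∈ K := fun i => Ideal.subset_span (List.mem_ofFn.2 ⟨i, rfl⟩)
  let b : Fin n → V := fun i => Submodule.Quotient.mk ⟨r i, hr i⟩
  have hle : n ≤ Module.finrank (A ⧸ maximalIdeal A) V := by
    obtain ⟨B⟩ : Nonempty (Module.Basis (Fin (Module.finrank (A ⧸ maximalIdeal A) V)) (A ⧸ maximalIdeal A) V) :=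
      ⟨Module.finBasis _ _⟩
    choose y hy using fun j => Submodule.Quotient.mk_surjective _ (B j)
    have htop := span_eq_top_of_mod K (Set.range y) fun z => by
      rw [← Set.range_comp, show (Submodule.Quotient.mk ∘ y : _ → V) = B from funext hy, B.span_eq]
      trivial
    have h1 : K.spanFinrank ≤ Module.finrank (A ⧸ maximalIdeal A) V := by
      have hK : K = Submodule.span A (Set.range fun j => (y j : A)) := by
        conv_lhs => rw [show K = (⊤ : Submodule A K).map K.subtype by rw [Submodule.map_top, Submodule.range_subtype],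
          ← htop, Submodule.map_span, ← Set.range_comp]
        rfl
      refine (congrArg Submodule.spanFinrank hK).trans_le ?_
      refine (Submodule.spanFinrank_span_le_ncard_of_finite (Set.finite_range _)).trans ?_
      rw [← Set.image_univ]
      exact (Set.ncard_image_le Set.finite_univ).trans (by simp [Set.ncard_univ])
    have h2 := length_le_spanFinrank h
    rw [List.length_ofFn] at h2
    exact h2.trans h1
  have hli : LinearIndependent (A ⧸ maximalIdeal A) b := by
    refine linearIndependent_of_top_le_span_of_card_le_finrank (fun z hz0 => ?_) (by rwa [Fintype.card_fin])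
    clear hz0
    obtain ⟨⟨x, hx⟩, rfl⟩ := Submodule.Quotient.mk_surjective _ z
    have hx' : x ∈ Submodule.span A {z | z ∈ List.ofFn r} := hx
    induction hx' using Submodule.span_induction with
    | mem z hz =>
      obtain ⟨i, rfl⟩ := List.mem_ofFn.1 hz
      exact Submodule.subset_span ⟨i, rfl⟩
    | zero => exact zero_mem _
    | add z w hz hw h1 h2 => exact add_mem (h1 hz) (h2 hw)
    | smul c z hz h1 => exact Submodule.smul_mem _ (Ideal.Quotient.mk _ c) (h1 hz)
  intro i
  refine Ideal.Quotient.eq_zero_iff_mem.1 ?_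
  exact Fintype.linearIndependent_iff.1 hli (fun i => Ideal.Quotient.mk _ (a i))
    ((mk_sum_eq_zero_iff r hr a).2 ha) i

/-- A short enough generating list of a regular ideal is regular. -/
theorem isRegular_of_generators {K : Ideal A} (h : CInt.IsRegularIdeal K) (xs : List A)
    (hxs : Ideal.ofList xs = K) (hlen : xs.length ≤ K.spanFinrank) : IsRegular A xs := by
  obtain ⟨rs, hrs, hK⟩ := h
  have hKm : K ≤ maximalIdeal A := le_maximalIdeal_of_isRegularIdeal ⟨rs, hrs, hK⟩
  have hmem : ∀ x ∈ xs, x ∈ maximalIdeal A := fun x hx => hKm (hxs ▸ Ideal.subset_span hx)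
  refine DepthLib.isRegular_of_isWeaklyRegular (I := maximalIdeal A)
    (DepthLib.isWeaklyRegular_of_length_le_idealDepth (M := A) xs hmem ?_) hmem
    (by rw [smul_eq_mul, Ideal.mul_top]; exact (maximalIdeal.isMaximal A).ne_top)
  rw [hxs]
  refine le_trans ?_ (DepthLib.length_le_idealDepth (I := K) hrs.toIsWeaklyRegular fun r hr => hK ▸ Ideal.subset_span hr)
  rw [Nat.cast_le]
  classical
  have hle : K.spanFinrank ≤ rs.length := by
    rw [← hK]
    refine (Submodule.spanFinrank_span_le_ncard_of_finite rs.finite_toSet).trans ?_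
    rw [← List.coe_toFinset, Set.ncard_coe_finset]
    exact rs.toFinset_card_le
  exact hlen.trans hle

/-- An ideal inside a regular ideal, modulo which the sequence stays regular, vanishes. -/
theorem le_bot_of_regular_quotient (gs : List A) (hm : ∀ g ∈ gs, g ∈ maximalIdeal A) (c : Ideal A)
    (hc : c ≤ Ideal.ofList gs) (hreg : IsWeaklyRegular (A ⧸ c) gs) : c = ⊥ := by
  induction gs using List.reverseRecOn with
  | nil => rwa [Ideal.ofList_nil, le_bot_iff] at hc
  | append_singleton gs g ih =>
    rw [isWeaklyRegular_append_iff, isWeaklyRegular_singleton_iff] at hreg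
    refine ih (fun x hx => hm x (List.mem_append_left _ hx)) ?_ hreg.1
    refine Submodule.le_of_le_smul_of_le_jacobson_bot (IsNoetherian.noetherian c)
      ((Ideal.span_singleton_le_iff_mem _).2 (hm g (List.mem_append_right _ List.mem_cons_self)) |>.trans
        (maximalIdeal_le_jacobson _)) ?_
    intro a ha
    have ha' := hc ha
    rw [Ideal.ofList_append, Ideal.ofList_singleton] at ha'
    obtain ⟨y, hy, z, hz, rfl⟩ := Submodule.mem_sup.1 ha'
    obtain ⟨b, rfl⟩ := Ideal.mem_span_singleton'.1 hz
    let J := (Ideal.ofList gs • ⊤ : Submodule A (A ⧸ c))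
    have hJ : ∀ x : A, (Ideal.Quotient.mk c x : A ⧸ c) ∈ J ↔ x ∈ Ideal.ofList gs ⊔ c := by
      intro x
      have : J = Submodule.map (Algebra.linearMap A (A ⧸ c)) (Ideal.ofList gs) := by
        show _ = Submodule.map _ _
        conv_rhs => rw [show Ideal.ofList gs = Ideal.ofList gs • (⊤ : Submodule A A) by simp]
        rw [Submodule.map_smul'', Submodule.map_top, LinearMap.range_eq_top.2
          (fun z => Ideal.Quotient.mk_surjective z)]
      rw [this, Submodule.mem_map]
      constructor
      · rintro ⟨w, hw, hwx⟩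
        rw [← sub_add_cancel x w]
        exact add_mem (Ideal.mem_sup_right (Ideal.Quotient.eq.1 hwx.symm)) (Ideal.mem_sup_left hw)
      · intro hx
        obtain ⟨w, hw, u, hu, rfl⟩ := Submodule.mem_sup.1 hx
        exact ⟨w, hw, Ideal.Quotient.eq.2 (by simpa using c.neg_mem hu)⟩
    have h1 : g • (Submodule.Quotient.mk (Ideal.Quotient.mk c b) : (A ⧸ c) ⧸ J) = 0 := by
      rw [← Submodule.Quotient.mk_smul, Submodule.Quotient.mk_eq_zero, Algebra.smul_def,
        Ideal.Quotient.algebraMap_eq, ← map_mul, hJ, mul_comm g b]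
      rw [show b * g = (y + b * g) - y by ring]
      exact sub_mem (Ideal.mem_sup_right ha) (Ideal.mem_sup_left hy)
    have h2 := (hJ b).1 ((Submodule.Quotient.mk_eq_zero _).1 (hreg.2.right_eq_zero_of_smul h1))
    obtain ⟨w, hw, u, hu, rfl⟩ := Submodule.mem_sup.1 h2
    rw [show y + (w + u) * g = (y + w * g) + u * g by ring]
    refine Submodule.add_mem _ (Submodule.mem_sup_left (add_mem hy (Ideal.mul_mem_right _ _ hw))) (Submodule.mem_sup_right ?_)
    rw [smul_eq_mul, mul_comm (Ideal.span {g})]
    exact Ideal.mul_mem_mul hu (Ideal.mem_span_singleton_self g)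

end Groth.Agent.CIReg6
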