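import Groth.Agent.Lib.GrFlat.Basic
import Mathlib

/-!
# Weakly regular sequences along filtrations
-/

namespace Groth.Agent.CIReg6

universe u

open RingTheory.Sequence Pointwise GrFlat

variable {A : Type u} [CommRing A]

theorem isWeaklyRegular_middle {M₁ M₂ M₃ : Type u} [AddCommGroup M₁] [Module A M₁] [AddCommGroup M₂] [Module A M₂]
    [AddCommGroup M₃] [Module A M₃] (f : M₁ →ₗ[A] M₂) (g : M₂ →ₗ[A] M₃) (hf : Function.Injective f)
    (h : Function.Exact f g) (hg : Function.Surjective g) {rs : List A}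
    (h₁ : IsWeaklyRegular M₁ rs) (h₃ : IsWeaklyRegular M₃ rs) : IsWeaklyRegular M₂ rs := by
  induction rs generalizing M₁ M₂ M₃ with
  | nil => exact IsWeaklyRegular.nil A M₂
  | cons r rs ih =>
    rw [isWeaklyRegular_cons_iff] at h₁ h₃ ⊢
    refine ⟨isSMulRegular_of_range_eq_ker hf (LinearMap.exact_iff.1 h).symm h₁.1 h₃.1, ?_⟩
    have h0 : Function.Exact (0 : PUnit.{u+1} →ₗ[A] M₁) f := LinearMap.exact_iff.2 (by
      rw [LinearMap.range_zero]; exact LinearMap.ker_eq_bot.2 hf)
    have hex := QuotSMulTop.map_first_exact_on_four_term_exact_of_isSMulRegular_last h0 h h₃.1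
    refine ih (QuotSMulTop.map r f) (QuotSMulTop.map r g) ?_ (QuotSMulTop.map_exact r h hg)
      (QuotSMulTop.map_surjective r hg) h₁.2 h₃.2
    rw [← LinearMap.ker_eq_bot, LinearMap.exact_iff.1 hex, map_zero, LinearMap.range_zero]

/-- Weak regularity on a flat module over a quotient. -/
theorem isWeaklyRegular_of_flat_quotient (J : Ideal A) (G : Type u) [AddCommGroup G] [Module A G]
    [Module (A ⧸ J) G] [IsScalarTower A (A ⧸ J) G] [Module.Flat (A ⧸ J) G] {rs : List A}
    (h : IsWeaklyRegular (A ⧸ J) rs) : IsWeaklyRegular G rs := by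
  have h' := (isWeaklyRegular_map_algebraMap_iff (A ⧸ J) (A ⧸ J) rs).2 h
  have := ((TensorProduct.rid (A ⧸ J) G).isWeaklyRegular_congr _).1 (h'.isWeaklyRegular_lTensor (M₂ := G))
  exact (isWeaklyRegular_map_algebraMap_iff (A ⧸ J) G rs).1 this

theorem isWeaklyRegular_of_gr [IsNoetherianRing A] (J : Ideal A) (hJ : J ≤ (⊥ : Ideal A).jacobson)
    (N : Type u) [AddCommGroup N] [Module A N] [Module.Finite A N] {rs : List A}
    (h : ∀ n, IsWeaklyRegular (Gr J N n) rs) : IsWeaklyRegular N rs := by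
  have hqt : ∀ n, IsWeaklyRegular (Qt J N n) rs := by
    intro n
    induction n with
    | zero =>
      haveI := subsingleton_qt_zero J N
      refine ⟨fun i _ => ?_⟩
      exact fun a b _ => Subsingleton.elim _ _
    | succ n ih =>
      exact isWeaklyRegular_middle (grIncl J N n) (qtTr J N n) (grIncl_injective J N n)
        (exact_grIncl_qtTr J N n) (qtTr_surjective J N n) (h n) ih
  refine ⟨fun i hi => IsSMulRegular.of_right_eq_zero_of_smul fun q hq => ?_⟩
  obtain ⟨m, rfl⟩ := Submodule.Quotient.mk_surjective _ q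
  rw [← Submodule.Quotient.mk_smul, Submodule.Quotient.mk_eq_zero] at hq
  set Y := (Ideal.ofList (rs.take i) • ⊤ : Submodule A N)
  haveI : IsHausdorff J (N ⧸ Y) := IsHausdorff.of_le_jacobson J _ hJ
  refine IsHausdorff.haus ‹IsHausdorff J (N ⧸ Y)› _ fun n => SModEq.zero.2 ?_
  have hmap : ∀ (K : Ideal A), (K • (⊤ : Submodule A N)).map (J ^ n • (⊤ : Submodule A N)).mkQ =
      K • (⊤ : Submodule A (Qt J N n)) := fun K => by
    rw [Submodule.map_smul'', Submodule.map_top, Submodule.range_mkQ]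
  have h1 : rs[i] • (Submodule.Quotient.mk (Submodule.Quotient.mk m) :
      Qt J N n ⧸ (Ideal.ofList (rs.take i) • ⊤ : Submodule A (Qt J N n))) = 0 := by
    rw [← Submodule.Quotient.mk_smul, ← Submodule.Quotient.mk_smul, Submodule.Quotient.mk_eq_zero, ← hmap]
    exact Submodule.mem_map_of_mem hq
  have h2 := (Submodule.Quotient.mk_eq_zero _).1 (((hqt n).regular_mod_prev i hi).right_eq_zero_of_smul h1)
  rw [← hmap] at h2
  obtain ⟨y, hy, hym⟩ := h2
  rw [show (Submodule.Quotient.mk m : N ⧸ Y) = Submodule.Quotient.mk (m - y) by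
    rw [Submodule.Quotient.mk_sub, (Submodule.Quotient.mk_eq_zero Y).2 hy, sub_zero]]
  rw [show (J ^ n • ⊤ : Submodule A (N ⧸ Y)) = (J ^ n • (⊤ : Submodule A N)).map Y.mkQ by
    rw [Submodule.map_smul'', Submodule.map_top, Submodule.range_mkQ]]
  exact Submodule.mem_map_of_mem ((Submodule.Quotient.eq _).1 hym.symm)

/-- The pieces of the powers of `J`. -/
theorem isWeaklyRegular_pow [IsNoetherianRing A] (J : Ideal A) (hJ : J ≤ (⊥ : Ideal A).jacobson)
    (hflat : ∀ k : ℕ, Module.Flat (A ⧸ J) (↥(J ^ k) ⧸ (J • (⊤ : Submodule A ↥(J ^ k))))) {rs : List A}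
    (hreg : IsWeaklyRegular (A ⧸ J) rs) (k : ℕ) :
    IsWeaklyRegular ↥(J ^ k) rs ∧ IsWeaklyRegular (↥(J ^ k) ⧸ (J • (⊤ : Submodule A ↥(J ^ k)))) rs := by
  have hgr : ∀ k, IsWeaklyRegular (↥(J ^ k) ⧸ (J • (⊤ : Submodule A ↥(J ^ k)))) rs := fun k =>
    haveI := hflat k
    isWeaklyRegular_of_flat_quotient J _ hreg
  refine ⟨isWeaklyRegular_of_gr J hJ ↥(J ^ k) fun n => ?_, hgr k⟩
  let X : Submodule A ↥(J ^ k) := J ^ n • ⊤
  have hX : X.map (J ^ k).subtype = J ^ (n + k) := by
    rw [Submodule.map_smul'', Submodule.map_top, Submodule.range_subtype, smul_eq_mul, pow_add]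
  let e : X ≃ₗ[A] ↥(J ^ (n + k)) :=
    (Submodule.equivMapOfInjective _ (J ^ k).injective_subtype X).trans (LinearEquiv.ofEq _ _ hX)
  have hcomap : J • (⊤ : Submodule A X) = Submodule.comap X.subtype (J ^ (n + 1) • ⊤) := by
    refine Submodule.map_injective_of_injective X.injective_subtype ?_
    rw [Submodule.map_smul'', Submodule.map_top, Submodule.range_subtype, Submodule.map_comap_subtype,
      inf_eq_right.2 (pow_succ_smul_le J _ n), ← Submodule.mul_smul, ← pow_succ']
  let e' : Gr J ↥(J ^ k) n ≃ₗ[A] ↥(J ^ (n + k)) ⧸ (J • (⊤ : Submodule A ↥(J ^ (n + k)))) :=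
    (Submodule.quotEquivOfEq _ _ hcomap.symm).trans (Submodule.Quotient.equiv _ _ e (by
      rw [Submodule.map_smul'', Submodule.map_top, LinearEquiv.range]))
  exact (e'.isWeaklyRegular_congr rs).2 (hgr (n + k))

end Groth.Agent.CIReg6
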